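-- helper46: S2281 (Sp_2n generated by three conjugate regular unipotents): the calculus of the symplectic
-- Eichler/Siegel elements `E(u,y,c) : x ↦ x + B(x,u) y + B(x,y) u + c B(x,u) u` in Mathlib's symplectic group,
-- and the membership predicate `HasM`.
import Mathlib
import Cfsg.Agent.Helper13.Symp

set_option autoImplicit false
set_option linter.unusedSectionVars false

namespace Cfsg.Agent.Helper46.RSp

open Matrix Cfsg.Agent.Helper13

variable {K : Type*} [Field K] {m : ℕ}

local notation "Vec" => (Fin m ⊕ Fin m → K)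
local notation "Mat" => Matrix (Fin m ⊕ Fin m) (Fin m ⊕ Fin m) K
local notation "B" => Cfsg.sympForm m K

/-- the basis vectors `e_i` -/
def bE (i : Fin m) : Vec := Pi.single (Sum.inl i) 1
/-- the basis vectors `f_i` -/
def bF (i : Fin m) : Vec := Pi.single (Sum.inr i) 1

theorem bE_apply_inl (i j : Fin m) : (bE i : Vec) (Sum.inl j) = if j = i then 1 else 0 := by
  unfold bE
  rw [Pi.single_apply]
  simp only [Sum.inl.injEq]

theorem bE_apply_inr (i j : Fin m) : (bE i : Vec) (Sum.inr j) = 0 := by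
  unfold bE
  rw [Pi.single_apply, if_neg (by intro h; cases h)]

theorem bF_apply_inr (i j : Fin m) : (bF i : Vec) (Sum.inr j) = if j = i then 1 else 0 := by
  unfold bF
  rw [Pi.single_apply]
  simp only [Sum.inr.injEq]

theorem bF_apply_inl (i j : Fin m) : (bF i : Vec) (Sum.inl j) = 0 := by
  unfold bF
  rw [Pi.single_apply, if_neg (by intro h; cases h)]

/-- `B(x, e_i) = x_{f_i}` -/
theorem form_bE_right (x : Vec) (i : Fin m) : B x (bE i) = x (Sum.inr i) := by
  rw [sympForm_eq_sum, Finset.sum_eq_single i]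
  · rw [bE_apply_inl, if_pos rfl, bE_apply_inr, mul_one, mul_zero, sub_zero]
  · intro j _ hj
    rw [bE_apply_inl, if_neg hj, bE_apply_inr, mul_zero, mul_zero, sub_zero]
  · intro h
    exact absurd (Finset.mem_univ _) h

/-- `B(x, f_i) = -x_{e_i}` -/
theorem form_bF_right (x : Vec) (i : Fin m) : B x (bF i) = -x (Sum.inl i) := by
  rw [sympForm_eq_sum, Finset.sum_eq_single i]
  · rw [bF_apply_inl, bF_apply_inr, if_pos rfl, mul_one, mul_zero, zero_sub]
  · intro j _ hj
    rw [bF_apply_inl, bF_apply_inr, if_neg hj, mul_zero, mul_zero, sub_zero]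
  · intro h
    exact absurd (Finset.mem_univ _) h

/-- `B(e_i, x) = -x_{f_i}` -/
theorem form_bE_left (x : Vec) (i : Fin m) : B (bE i) x = -x (Sum.inr i) := by
  rw [sympForm_swap, form_bE_right]

/-- `B(f_i, x) = x_{e_i}` -/
theorem form_bF_left (x : Vec) (i : Fin m) : B (bF i) x = x (Sum.inl i) := by
  rw [sympForm_swap, form_bF_right, neg_neg]

theorem form_self (x : Vec) : B x x = 0 := sympForm_self x

theorem mat_ext_mulVec {M N : Mat} (h : ∀ x : Vec, M *ᵥ x = N *ᵥ x) : M = N :=
  matrix_eq_of_mulVec h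

/-- the rank one map `x ↦ B(x,u) a` -/
def rkS (a u : Vec) : Mat := Matrix.vecMulVec a (Matrix.J (Fin m) K *ᵥ u)

theorem rkS_mulVec (a u x : Vec) : rkS a u *ᵥ x = B x u • a := by
  rw [rkS, Matrix.vecMulVec_mulVec, sympForm_def, dotProduct_comm x, op_smul_eq_smul]

/-- the symplectic Eichler (Siegel) element `x ↦ x + B(x,u) y + B(x,y) u + c B(x,u) u` -/
def eichS (u y : Vec) (c : K) : Mat := 1 + rkS y u + rkS u y + c • rkS u u

theorem eichS_mulVec (u y : Vec) (c : K) (x : Vec) :
    eichS u y c *ᵥ x = x + B x u • y + B x y • u + (c * B x u) • u := by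
  rw [eichS, Matrix.add_mulVec, Matrix.add_mulVec, Matrix.add_mulVec, Matrix.one_mulVec, Matrix.smul_mulVec,
    rkS_mulVec, rkS_mulVec, rkS_mulVec, smul_smul]

theorem eichS_zero_zero (u : Vec) : eichS u 0 0 = 1 := by
  apply mat_ext_mulVec
  intro x
  rw [eichS_mulVec, sympForm_zero_right, smul_zero, zero_smul, zero_mul, zero_smul, Matrix.one_mulVec, add_zero,
    add_zero, add_zero]

/-- the multiplication in the Heisenberg group `Q_u` -/
theorem eichS_mul {u y y' : Vec} (c c' : K) (hyu : B y u = 0) (hy'u : B y' u = 0) :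
    eichS u y c * eichS u y' c' = eichS u (y + y') (c + c' + B y' y) := by
  have huy : B u y = 0 := by rw [sympForm_swap, hyu, neg_zero]
  apply mat_ext_mulVec
  intro x
  rw [← Matrix.mulVec_mulVec, eichS_mulVec, eichS_mulVec, eichS_mulVec]
  simp only [sympForm_add_left, sympForm_smul_left, sympForm_add_right, sympForm_self, hy'u, huy, mul_zero,
    add_zero]
  module

/-- the transvection `t_{v,c}` is `E(v,0,c)` -/
theorem eichS_zero_eq (v : Vec) (c : K) : eichS v 0 c = Cfsg.sympTransvection m v c := by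
  apply mat_ext_mulVec
  intro x
  rw [eichS_mulVec, sympTransvection_mulVec, sympForm_zero_right, smul_zero, zero_smul, add_zero, add_zero]

theorem eichS_symm (u y : Vec) : eichS u y 0 = eichS y u 0 := by
  apply mat_ext_mulVec
  intro x
  rw [eichS_mulVec, eichS_mulVec]
  module

theorem eichS_smul_left (a : K) (u y : Vec) (c : K) : eichS (a • u) y c = eichS u (a • y) (a ^ 2 * c) := by
  apply mat_ext_mulVec
  intro x
  rw [eichS_mulVec, eichS_mulVec, sympForm_smul_right, sympForm_smul_right]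
  module

/-- `t_{u+y,ζ} = t_{u,ζ} E(u, ζ y, 0) t_{y,ζ}` for orthogonal `u`, `y` -/
theorem eichS_add_zero {u y : Vec} (ζ : K) (huy : B u y = 0) :
    eichS (u + y) 0 ζ = eichS u 0 ζ * eichS u (ζ • y) 0 * eichS y 0 ζ := by
  have hyu : B y u = 0 := by rw [sympForm_swap, huy, neg_zero]
  apply mat_ext_mulVec
  intro x
  rw [← Matrix.mulVec_mulVec, ← Matrix.mulVec_mulVec, eichS_mulVec, eichS_mulVec, eichS_mulVec, eichS_mulVec]
  simp only [sympForm_add_left, sympForm_smul_left, sympForm_add_right, sympForm_smul_right, sympForm_self,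
    sympForm_zero_right, huy, hyu, mul_zero, add_zero, zero_smul, zero_mul, smul_zero]
  module

/-- `E(u+u', y, 0) t_{y, B(u',u)} = E(u,y,0) E(u',y,0)` for `u`, `u'` orthogonal to `y` -/
theorem eichS_add_left {u u' y : Vec} (huy : B u y = 0) (hu'y : B u' y = 0) :
    eichS u y 0 * eichS u' y 0 = eichS (u + u') y 0 * eichS y 0 (B u' u) := by
  have hyu : B y u = 0 := by rw [sympForm_swap, huy, neg_zero]
  have hyu' : B y u' = 0 := by rw [sympForm_swap, hu'y, neg_zero]
  apply mat_ext_mulVec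
  intro x
  rw [← Matrix.mulVec_mulVec, ← Matrix.mulVec_mulVec, eichS_mulVec, eichS_mulVec, eichS_mulVec, eichS_mulVec]
  simp only [sympForm_add_left, sympForm_smul_left, sympForm_add_right, sympForm_smul_right, sympForm_self,
    sympForm_zero_right, huy, hyu, hu'y, hyu', mul_zero, add_zero, zero_smul, zero_mul, smul_zero]
  module

/-- the Eichler elements are symplectic -/
theorem eichS_mem {u y : Vec} (c : K) (hyu : B y u = 0) : eichS u y c ∈ Matrix.symplecticGroup (Fin m) K := by
  have huy : B u y = 0 := by rw [sympForm_swap, hyu, neg_zero]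
  rw [mem_symplecticGroup_iff_preserves]
  intro x x'
  rw [eichS_mulVec, eichS_mulVec]
  simp only [sympForm_add_left, sympForm_smul_left, sympForm_add_right, sympForm_smul_right, sympForm_self, hyu,
    huy, mul_zero, add_zero]
  rw [sympForm_swap u x', sympForm_swap y x']
  ring

/-- conjugating an Eichler element by a symplectic matrix -/
theorem conj_eichS {G G' : Mat} (hG : G ∈ Matrix.symplecticGroup (Fin m) K) (hGG' : G * G' = 1) (u y : Vec)
    (c : K) : G * eichS u y c * G' = eichS (G *ᵥ u) (G *ᵥ y) c := by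
  have hpres := (mem_symplecticGroup_iff_preserves G).mp hG
  have key : ∀ x v : Vec, B (G' *ᵥ x) v = B x (G *ᵥ v) := by
    intro x v
    have h := hpres (G' *ᵥ x) v
    rw [Matrix.mulVec_mulVec, hGG', Matrix.one_mulVec] at h
    exact h.symm
  apply mat_ext_mulVec
  intro x
  rw [← Matrix.mulVec_mulVec, ← Matrix.mulVec_mulVec, eichS_mulVec, eichS_mulVec, Matrix.mulVec_add,
    Matrix.mulVec_add, Matrix.mulVec_add, Matrix.mulVec_mulVec, hGG', Matrix.one_mulVec, Matrix.mulVec_smul,
    Matrix.mulVec_smul, Matrix.mulVec_smul, key, key]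

/-! ### the membership predicate -/

/-- the subgroup `H` contains an element with matrix `M` -/
def HasM (H : Subgroup (Matrix.symplecticGroup (Fin m) K)) (M : Mat) : Prop := ∃ x ∈ H, (x : Mat) = M

theorem HasM.mul {H : Subgroup (Matrix.symplecticGroup (Fin m) K)} {M N : Mat} (hM : HasM H M) (hN : HasM H N) :
    HasM H (M * N) := by
  obtain ⟨x, hx, rfl⟩ := hM
  obtain ⟨y, hy, rfl⟩ := hN
  exact ⟨x * y, mul_mem hx hy, rfl⟩

theorem HasM.one (H : Subgroup (Matrix.symplecticGroup (Fin m) K)) : HasM H (1 : Mat) := ⟨1, one_mem H, rfl⟩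

theorem coe_inv_mul (x : Matrix.symplecticGroup (Fin m) K) : ((x⁻¹ : Matrix.symplecticGroup (Fin m) K) : Mat) * (x : Mat) = 1 := by
  have h : ((x⁻¹ * x : Matrix.symplecticGroup (Fin m) K) : Mat) = 1 := by rw [inv_mul_cancel]; rfl
  exact h

theorem coe_mul_inv (x : Matrix.symplecticGroup (Fin m) K) : (x : Mat) * ((x⁻¹ : Matrix.symplecticGroup (Fin m) K) : Mat) = 1 := by
  have h : ((x * x⁻¹ : Matrix.symplecticGroup (Fin m) K) : Mat) = 1 := by rw [mul_inv_cancel]; rfl
  exact h

theorem HasM.inv {H : Subgroup (Matrix.symplecticGroup (Fin m) K)} {M N : Mat} (hM : HasM H M) (hMN : M * N = 1) :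
    HasM H N := by
  obtain ⟨x, hx, rfl⟩ := hM
  refine ⟨x⁻¹, inv_mem hx, ?_⟩
  have h1 := coe_inv_mul x
  calc ((x⁻¹ : Matrix.symplecticGroup (Fin m) K) : Mat)
      = ((x⁻¹ : Matrix.symplecticGroup (Fin m) K) : Mat) * ((x : Mat) * N) := by rw [hMN, Matrix.mul_one]
    _ = N := by rw [← Matrix.mul_assoc, h1, Matrix.one_mul]

theorem HasM.of_eq {H : Subgroup (Matrix.symplecticGroup (Fin m) K)} {M N : Mat} (hM : HasM H M) (h : M = N) :
    HasM H N := h ▸ hM

theorem hasM_coe {H : Subgroup (Matrix.symplecticGroup (Fin m) K)} {x : Matrix.symplecticGroup (Fin m) K}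
    (hx : x ∈ H) : HasM H (x : Mat) := ⟨x, hx, rfl⟩

/-- an element of `H` with a given matrix is symplectic -/
theorem HasM.mem {H : Subgroup (Matrix.symplecticGroup (Fin m) K)} {M : Mat} (hM : HasM H M) :
    M ∈ Matrix.symplecticGroup (Fin m) K := by
  obtain ⟨x, _, rfl⟩ := hM
  exact x.2

/-- conjugation inside `H` -/
theorem hasM_conj_eichS {H : Subgroup (Matrix.symplecticGroup (Fin m) K)} {M : Mat} (hM : HasM H M) {u y : Vec}
    {c : K} (hE : HasM H (eichS u y c)) : HasM H (eichS (M *ᵥ u) (M *ᵥ y) c) := by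
  obtain ⟨a, ha, rfl⟩ := hM
  obtain ⟨b, hb, hbm⟩ := hE
  refine ⟨a * b * a⁻¹, mul_mem (mul_mem ha hb) (inv_mem ha), ?_⟩
  have h1 : ((a * b * a⁻¹ : Matrix.symplecticGroup (Fin m) K) : Mat) =
      (a : Mat) * (b : Mat) * ((a⁻¹ : Matrix.symplecticGroup (Fin m) K) : Mat) := rfl
  rw [h1, hbm]
  exact conj_eichS a.2 (coe_mul_inv a) u y c

/-- the inverse of an Eichler element -/
theorem HasM.eichS_inv {H : Subgroup (Matrix.symplecticGroup (Fin m) K)} {u y : Vec} {c : K} (hyu : B y u = 0)
    (hE : HasM H (eichS u y c)) : HasM H (eichS u (-y) (-c)) := by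
  refine hE.inv ?_
  have hnyu : B (-y) u = 0 := by rw [sympForm_neg_left, hyu, neg_zero]
  rw [eichS_mul _ _ hyu hnyu, sympForm_neg_left, sympForm_self, neg_zero, add_zero, add_neg_cancel, add_neg_cancel,
    eichS_zero_zero]

end Cfsg.Agent.Helper46.RSp
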