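-- helper46: S2281 (Sp_2n(q), n ≥ 3, generated by three conjugate regular unipotent elements): the definitions of the
-- explicit design in Mathlib's `Matrix.symplecticGroup (Fin (j + 3)) K` (`n = j + 3`).
import Mathlib
import Cfsg.Agent.Helper46.RSp.Eich

set_option autoImplicit false
set_option linter.unusedSectionVars false

namespace Cfsg.Agent.Helper46.RSp

open Matrix Cfsg.Agent.Helper13

variable {K : Type*} [Field K] {j : ℕ}

local notation "Vec" => (Fin (j + 3) ⊕ Fin (j + 3) → K)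
local notation "Mat" => Matrix (Fin (j + 3) ⊕ Fin (j + 3)) (Fin (j + 3) ⊕ Fin (j + 3)) K
local notation "Mk" => Matrix (Fin (j + 3)) (Fin (j + 3)) K

/-- the index of `e_1`, `f_1` -/
def i1 : Fin (j + 3) := ⟨0, by omega⟩
/-- the index of `e_2`, `f_2` -/
def i2 : Fin (j + 3) := ⟨1, by omega⟩
/-- the index of `e_3`, `f_3` -/
def i3 : Fin (j + 3) := ⟨2, by omega⟩
/-- the index of `e_n`, `f_n` (`n = j + 3`) -/
def iN : Fin (j + 3) := ⟨j + 2, by omega⟩

/-- `e_2 + e_3 + ... + e_n` -/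
def sE : Vec := fun x => match x with
  | Sum.inl i => if 1 ≤ i.val then 1 else 0
  | Sum.inr _ => 0

/-- `e_2 + e_3 + ... + e_l` -/
def pE (l : Fin (j + 3)) : Vec := fun x => match x with
  | Sum.inl i => if 1 ≤ i.val ∧ i.val ≤ l.val then 1 else 0
  | Sum.inr _ => 0

/-- the vectors of `V' = ⟨e_1, f_1⟩^⊥` -/
def InV' (x : Vec) : Prop := x (Sum.inl i1) = 0 ∧ x (Sum.inr i1) = 0

/-- the upper unitriangular matrix with all entries above the diagonal in the rows `≥ 2` equal to one -/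
def MpM : Mk := Matrix.of fun i l => if i = l then 1 else if 1 ≤ i.val ∧ i.val < l.val then 1 else 0

/-- the inverse transpose of `MpM` -/
def MqM : Mk := Matrix.of fun i l => if i = l then 1 else if 1 ≤ l.val ∧ l.val + 1 = i.val then -1 else 0

/-- the Levi element `diag(A, A')` -/
def lvS (A A' : Mk) : Mat := Matrix.fromBlocks A 0 0 A'

/-- the regular unipotent element `UW'` of `Sp(V')`: `e_l ↦ e_2 + ... + e_l`, `f_l ↦ f_l - f_{l+1}`,
`f_n ↦ f_n + c (e_2 + ... + e_n)` -/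
def UWM (c : K) : Mat := lvS MpM MqM * eichS (bE iN) 0 c

/-- the root element `A_12 : e_2 ↦ e_2 + e_1, f_1 ↦ f_1 - f_2` -/
def A12M : Mat := eichS (bE i1) (-bF i2) 0

/-- the root element `X = B_12 : f_1 ↦ f_1 + e_2, f_2 ↦ f_2 + e_1` -/
def XM : Mat := eichS (bE i1) (bE i2) 0

/-- the element `Y = E(f_1, -f_2 - s₁ e_2, 0)` -/
def YM (s₁ : K) : Mat := eichS (bF i1) (-bF i2 - s₁ • bE i2) 0

/-- the regular unipotent element `u = UW' A_12` -/
def uM (c : K) : Mat := UWM c * A12M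

/-- the first conjugating element `g = E(e_1, -e_3, 0)` -/
def gM : Mat := eichS (bE i1) (-bE i3) 0

/-- the Weyl element `s : e_1 ↦ f_1, f_1 ↦ -e_1`, the identity on `V'` -/
def sM : Mat := Matrix.of fun x y =>
  if x = Sum.inr i1 then (if y = Sum.inl i1 then 1 else 0)
  else if x = Sum.inl i1 then (if y = Sum.inr i1 then -1 else 0)
  else if x = y then 1 else 0

/-- the second conjugating element `h = s t_{e_2,s₁}` -/
def hM (s₁ : K) : Mat := sM * eichS (bE i2) 0 s₁

/-- the element `k_2 = E(-f_2, f_3, 0) : e_2 ↦ e_2 + f_3, e_3 ↦ e_3 + f_2` -/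
def k2M : Mat := eichS (-bF i2) (bF i3) 0

/-- the elements `k_4(τ) = E(-f_2, τ f_n, 0) : e_n ↦ e_n + τ f_2, e_2 ↦ e_2 + τ f_n` -/
def k4M (τ : K) : Mat := eichS (-bF i2) (τ • bF iN) 0

/-- the nilpotent part of `UW'` on vectors -/
def NU (c : K) (x : Vec) : Vec := UWM c *ᵥ x - x

end Cfsg.Agent.Helper46.RSp
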