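-- helper46: S2281 (Sp_2n(q) generated by three conjugate regular unipotent elements), the case n ≥ 3: assembly of the
-- pieces proved by helper1, helper20, helper22, helper29, helper30, helper31, helper57, helper66, helper67, helper68,
-- helper76 (statements: tools/helper46_rsp/Skel.lean.txt).
import Mathlib
import Cfsg.Agent.Helper46.RSp.Defs
import Cfsg.Agent.Helper13.SympGen2
import Cfsg.Agent.Helper67.RSpUWA1
import Cfsg.Agent.Helper67.RSpUWA2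
import Cfsg.Agent.Helper1.RSpUWP
import Cfsg.Agent.Helper1.RSpTVALL
import Cfsg.Agent.Helper68.RSpITER
import Cfsg.Agent.Helper68.RSpTOPG
import Cfsg.Agent.Helper68.RSpP2
import Cfsg.Agent.Helper57.RSpSPAN
import Cfsg.Agent.Helper57.RSpP3
import Cfsg.Agent.Helper22.RSpSMAT
import Cfsg.Agent.Helper22.RSpCHAINK
import Cfsg.Agent.Helper20.RSpXU1
import Cfsg.Agent.Helper20.RSpXU2
import Cfsg.Agent.Helper30.RSpBRAID
import Cfsg.Agent.Helper30.RSpLR
import Cfsg.Agent.Helper30.RSpLAM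
import Cfsg.Agent.Helper66.RSpSTEP
import Cfsg.Agent.Helper66.RSpCOMM
import Cfsg.Agent.Helper66.RSpSQ
import Cfsg.Agent.Helper66.RSpPARAM
import Cfsg.Agent.Helper29.RSpKACT
import Cfsg.Agent.Helper29.RSpREG
import Cfsg.Agent.Helper31.RSpPF
import Cfsg.Agent.Helper76.RSpPF2
import Cfsg.Agent.Helper76.RSpCENF

set_option autoImplicit false
set_option linter.unusedSectionVars false
set_option linter.unusedVariables false

namespace Cfsg.Agent.Helper46.RSp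

open Matrix Cfsg.Agent.Helper13

variable {K : Type*} [Field K] {j : ℕ}

local notation "Vec" => (Fin (j + 3) ⊕ Fin (j + 3) → K)
local notation "Mat" => Matrix (Fin (j + 3) ⊕ Fin (j + 3)) (Fin (j + 3) ⊕ Fin (j + 3)) K
local notation "Mk" => Matrix (Fin (j + 3)) (Fin (j + 3)) K
local notation "SpG" => Matrix.symplecticGroup (Fin (j + 3)) K
local notation "B" => Cfsg.sympForm (j + 3) K

/-! ## the pieces (restated) -/

/-! ### (UWA1) `UW'` is symplectic -/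

theorem MpM_transpose_mul_MqM : (MpM : Mk)ᵀ * (MqM : Mk) = 1 :=
  Cfsg.Agent.Helper67.RSp.MpM_transpose_mul_MqM

theorem lvS_mem {A A' : Mk} (h : Aᵀ * A' = 1) : lvS A A' ∈ SpG :=
  Cfsg.Agent.Helper67.RSp.lvS_mem h

theorem UWM_mem (c : K) : UWM c ∈ SpG :=
  Cfsg.Agent.Helper67.RSp.UWM_mem c

/-! ### (UWA2) the action of `UW'` on the basis -/

theorem UWM_bE1 (c : K) : UWM c *ᵥ (bE i1 : Vec) = bE i1 :=
  Cfsg.Agent.Helper67.RSp.UWM_bE1 c

theorem UWM_bF1 (c : K) : UWM c *ᵥ (bF i1 : Vec) = bF i1 :=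
  Cfsg.Agent.Helper67.RSp.UWM_bF1 c

/-- `UW' e_l = e_2 + ... + e_l` for `l ≥ 2` -/
theorem UWM_bE (c : K) (l : Fin (j + 3)) (hl : 1 ≤ l.val) : UWM c *ᵥ (bE l : Vec) = pE l :=
  Cfsg.Agent.Helper67.RSp.UWM_bE c l hl

theorem pE_i2 : (pE i2 : Vec) = bE i2 :=
  Cfsg.Agent.Helper67.RSp.pE_i2

theorem pE_iN : (pE iN : Vec) = sE :=
  Cfsg.Agent.Helper67.RSp.pE_iN

theorem UWM_bF (c : K) (l : Fin (j + 3)) (hl : 1 ≤ l.val) (hl' : l.val < j + 2) :
    UWM c *ᵥ (bF l : Vec) = bF l - bF ⟨l.val + 1, by omega⟩ :=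
  Cfsg.Agent.Helper67.RSp.UWM_bF c l hl hl'

theorem UWM_bFN (c : K) : UWM c *ᵥ (bF iN : Vec) = bF iN + c • sE :=
  Cfsg.Agent.Helper67.RSp.UWM_bFN c

/-! ### (UWP) the nilpotent part `N = UW' - 1` -/

theorem NU_inV' (c : K) (x : Vec) (hx : InV' x) : InV' (NU c x) :=
  Cfsg.Agent.Helper1.RSp.NU_inV' c x hx

/-- the `f_2`-coefficient of `N x` vanishes -/
theorem NU_apply_f2 (c : K) (x : Vec) : NU c x (Sum.inr i2) = 0 :=
  Cfsg.Agent.Helper1.RSp.NU_apply_f2 c x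

/-- `N^{2n-3} x = (-1)^{n} c x_{f_2} e_2` on `V'` -/
theorem NU_iter_top (c : K) (x : Vec) (hx : InV' x) :
    (NU c)^[2 * j + 3] x = ((-1 : K) ^ (j + 1) * c * x (Sum.inr i2)) • bE i2 :=
  Cfsg.Agent.Helper1.RSp.NU_iter_top c x hx

/-! ### (ITER) two consequences -/

theorem NU_iter_Y (c s₁ : K) :
    (NU c)^[2 * j + 3] (-bF i2 - s₁ • bE i2 : Vec) = ((-1 : K) ^ j * c) • bE i2 :=
  Cfsg.Agent.Helper68.RSp.NU_iter_Y c s₁

theorem NU_iter_f3 (c t : K) : (NU c)^[2 * j + 2] (t • bF i3 : Vec) = ((-1 : K) ^ j * c * t) • bE i2 :=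
  Cfsg.Agent.Helper68.RSp.NU_iter_f3 c t

/-! ### (SPAN) `f_2` is a cyclic vector of `UW'` on `V'` -/

theorem span_NU (c : K) (hc : c ≠ 0) (S : Submodule K Vec) (h2 : (bF i2 : Vec) ∈ S)
    (hS : ∀ x ∈ S, UWM c *ᵥ x ∈ S) : ∀ x : Vec, InV' x → x ∈ S :=
  Cfsg.Agent.Helper57.RSp.span_NU c hc S h2 hS

/-! ### (SMAT) the Weyl element `s` -/

theorem sM_mem : (sM : Mat) ∈ SpG :=
  Cfsg.Agent.Helper22.RSp.sM_mem

theorem sM_mulVec (x : Vec) : (sM : Mat) *ᵥ x = fun y =>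
    if y = Sum.inr i1 then x (Sum.inl i1) else if y = Sum.inl i1 then -x (Sum.inr i1) else x y :=
  Cfsg.Agent.Helper22.RSp.sM_mulVec x

/-! ### (XU1), (XU2) the two computations of the design -/

theorem coe_comm_g_u (c : K) (u g : SpG) (hu : (u : Mat) = uM c) (hg : (g : Mat) = gM) :
    ((g * u * g⁻¹ * u⁻¹ : SpG) : Mat) = XM :=
  Cfsg.Agent.Helper20.RSp.coe_comm_g_u c u g hu hg

theorem coe_conj_h_u (c s₁ : K) (u h : SpG) (hu : (u : Mat) = uM c) (hh : (h : Mat) = hM s₁) :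
    ((h * u * h⁻¹ : SpG) : Mat) = UWM c * YM s₁ :=
  Cfsg.Agent.Helper20.RSp.coe_conj_h_u c s₁ u h hu hh

/-! ### (BRAID) the braid trick: `X Y⁻¹ X = Y⁻¹ X Y⁻¹` -/

theorem hasM_Y_UW (c s₁ : K) (H : Subgroup SpG) (hX : HasM H XM) (hU3 : HasM H (UWM c * YM s₁)) :
    HasM H (YM s₁) ∧ HasM H (UWM c) :=
  Cfsg.Agent.Helper30.RSp.hasM_Y_UW c s₁ H hX hU3

/-! ### (STEP) the chain step -/

theorem hasM_step {H : Subgroup SpG} {M : Mat} (hM : HasM H M) {w y : Vec} {z : K} (hMw : M *ᵥ w = w)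
    (hyw : B y w = 0) (hE : HasM H (eichS w y z)) :
    HasM H (eichS w (M *ᵥ y - y) (-(B y (M *ᵥ y)))) :=
  Cfsg.Agent.Helper66.RSp.hasM_step hM hMw hyw hE

/-! ### (COMM) the commutator of two pure elements -/

theorem hasM_comm_pure {H : Subgroup SpG} {y y' : Vec} (hy : InV' y) (hy' : InV' y') (hyy' : B y y' = 0)
    (h1 : HasM H (eichS (bE i1) y 0)) (h2 : HasM H (eichS (bF i1) y' 0)) : HasM H (eichS y y' 0) :=
  Cfsg.Agent.Helper66.RSp.hasM_comm_pure hy hy' hyy' h1 h2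

/-! ### (KACT) the action of `k_2`, `k_4` -/

theorem k2M_bE2 : (k2M : Mat) *ᵥ (bE i2 : Vec) = bE i2 + bF i3 :=
  Cfsg.Agent.Helper29.RSp.k2M_bE2

theorem k2M_fix {w : Vec} (hw : w = bE i1 ∨ w = bF i1) : (k2M : Mat) *ᵥ w = w :=
  Cfsg.Agent.Helper29.RSp.k2M_fix hw

theorem k4M_bEN (τ : K) : k4M τ *ᵥ (bE iN : Vec) = bE iN + τ • bF i2 :=
  Cfsg.Agent.Helper29.RSp.k4M_bEN τ

theorem k4M_fix (τ : K) {w : Vec} (hw : w = bE i1 ∨ w = bF i1) : k4M τ *ᵥ w = w :=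
  Cfsg.Agent.Helper29.RSp.k4M_fix τ hw

/-! ### (CHAINK) iterating the chain step -/

theorem hasM_chain_iter (c : K) {H : Subgroup SpG} (hUW : HasM H (UWM c)) {w : Vec} (hw : w = bE i1 ∨ w = bF i1)
    (k : ℕ) {y : Vec} (hy : InV' y) {z : K} (hE : HasM H (eichS w y z)) :
    ∃ z', HasM H (eichS w ((NU c)^[k] y) z') :=
  Cfsg.Agent.Helper22.RSp.hasM_chain_iter c hUW hw k hy hE

/-! ### (TOPG) the top of a chain is pure -/

theorem hasM_pure_of_iter (c : K) {H : Subgroup SpG} (hUW : HasM H (UWM c)) {w : Vec}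
    (hw : w = bE i1 ∨ w = bF i1) (k : ℕ) {y : Vec} (hy : InV' y) {z a : K} (hE : HasM H (eichS w y z))
    (hk : (NU c)^[k + 2] y = a • bE i2) : HasM H (eichS w (a • bE i2) 0) :=
  Cfsg.Agent.Helper68.RSp.hasM_pure_of_iter c hUW hw k hy hE hk

/-! ### (P2) all pure `E(w, t e_2, 0)` -/

theorem pure_e2_step (c : K) {H : Subgroup SpG} (hUW : HasM H (UWM c)) (hk2 : HasM H k2M) {w : Vec}
    (hw : w = bE i1 ∨ w = bF i1) {t : K} (hE : HasM H (eichS w (t • bE i2) 0)) :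
    HasM H (eichS w ((c * t) • bE i2) 0) :=
  Cfsg.Agent.Helper68.RSp.pure_e2_step c hUW hk2 hw hE

theorem pure_e2_all (c : K) (hc : c ≠ 0)
    (hgen : ∀ A : AddSubgroup K, (∀ x ∈ A, c * x ∈ A) → (1 : K) ∈ A → A = ⊤) {H : Subgroup SpG}
    (hUW : HasM H (UWM c)) (hk2 : HasM H k2M) {w : Vec} (hw : w = bE i1 ∨ w = bF i1) {t₀ : K} (ht₀ : t₀ ≠ 0)
    (h0 : HasM H (eichS w (t₀ • bE i2) 0)) : ∀ t : K, HasM H (eichS w (t • bE i2) 0) :=
  Cfsg.Agent.Helper68.RSp.pure_e2_all c hc hgen hUW hk2 hw ht₀ h0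

/-! ### (P3), (PF) all pure `E(w, t f_l, 0)`, `l ≥ 3` -/

theorem pure_f3_all {H : Subgroup SpG} (hk2 : HasM H k2M) {w : Vec} (hw : w = bE i1 ∨ w = bF i1)
    (h : ∀ t : K, HasM H (eichS w (t • bE i2) 0)) : ∀ t : K, HasM H (eichS w (t • bF i3) 0) :=
  Cfsg.Agent.Helper57.RSp.pure_f3_all hk2 hw h

theorem pure_f_all (c : K) {H : Subgroup SpG} (hUW : HasM H (UWM c)) {w : Vec} (hw : w = bE i1 ∨ w = bF i1)
    (h3 : ∀ t : K, HasM H (eichS w (t • bF i3) 0)) :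
    ∀ l : Fin (j + 3), 2 ≤ l.val → ∀ t : K, HasM H (eichS w (t • bF l) 0) :=
  Cfsg.Agent.Helper31.RSp.pure_f_all c hUW hw h3

/-! ### (PEN) the non-pure elements over `e_n` -/

theorem hasM_eN (c : K) {H : Subgroup SpG} (hUW : HasM H (UWM c)) {w : Vec} (hw : w = bE i1 ∨ w = bF i1)
    (hN : ∀ t : K, HasM H (eichS w (t • bF iN) 0)) :
    ∀ t : K, HasM H (eichS w ((t * c) • bE iN) (-(t ^ 2 * c))) :=
  Cfsg.Agent.Helper31.RSp.hasM_eN c hUW hw hN

/-! ### (PF2) all pure `E(w, t f_2, 0)` -/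

theorem pure_f2_all (c : K) (hc : c ≠ 0) {H : Subgroup SpG} (hk4 : ∀ τ : K, HasM H (k4M τ)) {w : Vec}
    (hw : w = bE i1 ∨ w = bF i1) (hEN : HasM H (eichS w (c • bE iN) (-c))) :
    ∀ t : K, HasM H (eichS w (t • bF i2) 0) :=
  Cfsg.Agent.Helper76.RSp.pure_f2_all c hc hk4 hw hEN

/-! ### (CENF) a long root element -/

theorem hasM_centre_f (s₁ : K) {H : Subgroup SpG} (hY : HasM H (YM s₁))
    (he2 : ∀ t : K, HasM H (eichS (bF i1) (t • bE i2) 0)) (hf2 : ∀ t : K, HasM H (eichS (bF i1) (t • bF i2) 0)) :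
    HasM H (eichS (bF i1) 0 s₁) :=
  Cfsg.Agent.Helper76.RSp.hasM_centre_f s₁ hY he2 hf2

/-! ### (LAM) `Λ_w = V'` -/

theorem exists_hasM_all (c : K) (hc : c ≠ 0) {H : Subgroup SpG} (hUW : HasM H (UWM c)) {w : Vec}
    (hw : w = bE i1 ∨ w = bF i1) (hf2 : ∀ t : K, HasM H (eichS w (t • bF i2) 0)) :
    ∀ y : Vec, InV' y → ∃ z, HasM H (eichS w y z) :=
  Cfsg.Agent.Helper30.RSp.exists_hasM_all c hc hUW hw hf2

/-! ### (LR) moving long root elements -/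

theorem hasM_tv_f2_of_f1 {H : Subgroup SpG} {ζ t : K} (hz : HasM H (eichS (bF i1) 0 ζ))
    (h1 : HasM H (eichS (bE i1) (t • bF i2) 0)) (h2 : HasM H (eichS (bF i1) ((ζ * t) • bF i2) 0)) :
    HasM H (eichS (bF i2) 0 (t ^ 2 * ζ)) :=
  Cfsg.Agent.Helper30.RSp.hasM_tv_f2_of_f1 hz h1 h2

theorem hasM_tv_f1_of_f2 {H : Subgroup SpG} {ξ t : K} (hz : HasM H (eichS (bF i2) 0 ξ))
    (h1 : HasM H (eichS (bF i1) (t • bE i2) 0)) (h2 : HasM H (eichS (bF i1) ((ξ * t) • bF i2) 0)) :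
    HasM H (eichS (bF i1) 0 (t ^ 2 * ξ)) :=
  Cfsg.Agent.Helper30.RSp.hasM_tv_f1_of_f2 hz h1 h2

theorem hasM_tv_e1_of_f2 {H : Subgroup SpG} {ξ t : K} (hz : HasM H (eichS (bF i2) 0 ξ))
    (h1 : HasM H (eichS (bE i1) (t • bE i2) 0)) (h2 : HasM H (eichS (bE i1) ((ξ * t) • bF i2) 0)) :
    HasM H (eichS (bE i1) 0 (t ^ 2 * ξ)) :=
  Cfsg.Agent.Helper30.RSp.hasM_tv_e1_of_f2 hz h1 h2

/-! ### (SQ) the squares span a finite field additively -/

theorem squares_span [Fintype K] (A : AddSubgroup K) (h : ∀ t : K, t ^ 2 ∈ A) : A = ⊤ :=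
  Cfsg.Agent.Helper66.RSp.squares_span A h

/-! ### (TVALL) `Q_{e_1}` and `Q_{f_1}` generate -/

theorem eq_top_of_Q (H : Subgroup SpG)
    (he : ∀ (y : Vec) (z : K), InV' y → HasM H (eichS (bE i1) y z))
    (hf : ∀ (y : Vec) (z : K), InV' y → HasM H (eichS (bF i1) y z)) : H = ⊤ :=
  Cfsg.Agent.Helper1.RSp.eq_top_of_Q H he hf

/-! ### (REG) `u` is regular unipotent -/

theorem uM_sub_one_pow_ne (c : K) (hc : c ≠ 0) : ((uM c : Mat) - 1) ^ (2 * j + 5) ≠ 0 :=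
  Cfsg.Agent.Helper29.RSp.uM_sub_one_pow_ne c hc

theorem uM_sub_one_pow_eq (c : K) : ((uM c : Mat) - 1) ^ (2 * j + 6) = 0 :=
  Cfsg.Agent.Helper29.RSp.uM_sub_one_pow_eq c

/-! ### (PARAM) the parameter -/

theorem exists_param [Fintype K] :
    ∃ c : K, c ≠ 0 ∧ ∀ A : AddSubgroup K, (∀ x ∈ A, c * x ∈ A) → (1 : K) ∈ A → A = ⊤ :=
  Cfsg.Agent.Helper66.RSp.exists_param


/-! ## the assembly -/

theorem inV'_of_form {y : Vec} (h1 : B y (bE i1) = 0) (h2 : B y (bF i1) = 0) : InV' y := by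
  rw [form_bE_right] at h1
  rw [form_bF_right, neg_eq_zero] at h2
  exact ⟨h2, h1⟩

theorem form_side_of_inV' {y w : Vec} (hy : InV' y) (hw : w = bE i1 ∨ w = bF i1) : B y w = 0 := by
  rcases hw with rfl | rfl
  · rw [form_bE_right]; exact hy.2
  · rw [form_bF_right, hy.1, neg_zero]

theorem inV'_bE {l : Fin (j + 3)} (hl : l ≠ i1) : InV' (bE l : Vec) := by
  refine ⟨?_, ?_⟩
  · rw [bE_apply_inl, if_neg (fun h => hl h.symm)]
  · rw [bE_apply_inr]

theorem inV'_bF {l : Fin (j + 3)} (hl : l ≠ i1) : InV' (bF l : Vec) := by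
  refine ⟨?_, ?_⟩
  · rw [bF_apply_inl]
  · rw [bF_apply_inr, if_neg (fun h => hl h.symm)]

theorem inV'_smul {y : Vec} (t : K) (hy : InV' y) : InV' (t • y) := by
  refine ⟨?_, ?_⟩
  · rw [Pi.smul_apply, hy.1, smul_zero]
  · rw [Pi.smul_apply, hy.2, smul_zero]

theorem inV'_neg {y : Vec} (hy : InV' y) : InV' (-y) := by
  refine ⟨?_, ?_⟩
  · rw [Pi.neg_apply, hy.1, neg_zero]
  · rw [Pi.neg_apply, hy.2, neg_zero]

theorem inV'_add {y y' : Vec} (hy : InV' y) (hy' : InV' y') : InV' (y + y') := by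
  refine ⟨?_, ?_⟩
  · rw [Pi.add_apply, hy.1, hy'.1, add_zero]
  · rw [Pi.add_apply, hy.2, hy'.2, add_zero]

theorem inV'_sub {y y' : Vec} (hy : InV' y) (hy' : InV' y') : InV' (y - y') := by
  rw [sub_eq_add_neg]
  exact inV'_add hy (inV'_neg hy')

theorem i2_ne_i1 : (i2 : Fin (j + 3)) ≠ i1 := by
  intro h
  have := congrArg Fin.val h
  simp [i1, i2] at this

theorem i3_ne_i1 : (i3 : Fin (j + 3)) ≠ i1 := by
  intro h
  have := congrArg Fin.val h
  simp [i1, i3] at this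

theorem iN_ne_i1 : (iN : Fin (j + 3)) ≠ i1 := by
  intro h
  have := congrArg Fin.val h
  simp [i1, iN] at this

theorem A12M_mem : (A12M : Mat) ∈ SpG := by
  apply eichS_mem
  rw [sympForm_neg_left, form_bE_right, bF_apply_inr, if_neg (fun h => i2_ne_i1 h.symm), neg_zero]

theorem uM_mem (c : K) : uM c ∈ SpG := mul_mem (UWM_mem c) A12M_mem

theorem gM_mem : (gM : Mat) ∈ SpG := by
  apply eichS_mem
  rw [sympForm_neg_left, form_bE_right, bE_apply_inr, neg_zero]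

theorem hM_mem (s₁ : K) : hM s₁ ∈ SpG := by
  apply mul_mem sM_mem
  apply eichS_mem
  rw [sympForm_zero_left]

/-- the main theorem in the model -/
theorem model_main [Fintype K] {c : K} (hc : c ≠ 0)
    (hgen : ∀ A : AddSubgroup K, (∀ x ∈ A, c * x ∈ A) → (1 : K) ∈ A → A = ⊤)
    (u g h : SpG) (hu : (u : Mat) = uM c) (hg : (g : Mat) = gM) (hh : (h : Mat) = hM 1) :
    Subgroup.closure ({u, g * u * g⁻¹, h * u * h⁻¹} : Set SpG) = ⊤ := by
  obtain ⟨H, hH⟩ : ∃ H : Subgroup SpG, H = Subgroup.closure ({u, g * u * g⁻¹, h * u * h⁻¹} : Set SpG) :=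
    ⟨_, rfl⟩
  rw [← hH]
  have hu1 : u ∈ H := by
    rw [hH]
    exact Subgroup.subset_closure (by simp)
  have hu2 : g * u * g⁻¹ ∈ H := by
    rw [hH]
    exact Subgroup.subset_closure (by simp)
  have hu3 : h * u * h⁻¹ ∈ H := by
    rw [hH]
    exact Subgroup.subset_closure (by simp)
  have hX : HasM H XM := ⟨g * u * g⁻¹ * u⁻¹, mul_mem hu2 (inv_mem hu1), coe_comm_g_u c u g hu hg⟩
  have hU3 : HasM H (UWM c * YM 1) := ⟨h * u * h⁻¹, hu3, coe_conj_h_u c 1 u h hu hh⟩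
  obtain ⟨hY, hUW⟩ := hasM_Y_UW c 1 H hX hU3
  have hA : HasM H A12M := by
    obtain ⟨x, hx, hxm⟩ := hUW
    refine ⟨x⁻¹ * u, mul_mem (inv_mem hx) hu1, ?_⟩
    have h1 : ((x⁻¹ * u : SpG) : Mat) = ((x⁻¹ : SpG) : Mat) * (u : Mat) := rfl
    rw [h1, hu, uM, ← Matrix.mul_assoc, ← hxm, coe_inv_mul, Matrix.one_mul]
  have hwe : (bE i1 : Vec) = bE i1 ∨ (bE i1 : Vec) = bF i1 := Or.inl rfl
  have hwf : (bF i1 : Vec) = bE i1 ∨ (bF i1 : Vec) = bF i1 := Or.inr rfl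
  have hYV : InV' (-bF i2 - (1 : K) • bE i2 : Vec) :=
    inV'_sub (inV'_neg (inV'_bF i2_ne_i1)) (inV'_smul _ (inV'_bE i2_ne_i1))
  -- the first chain step of `Y`
  have hf3 : HasM H (eichS (bF i1) (bF i3) 0) := by
    have h1 := hasM_step hUW (UWM_bF1 c) (form_side_of_inV' hYV hwf) hY
    refine h1.of_eq ?_
    have e1 : UWM c *ᵥ (-bF i2 - (1 : K) • bE i2 : Vec) = -bF i2 - (1 : K) • bE i2 + bF i3 := by
      rw [Matrix.mulVec_sub, Matrix.mulVec_neg, Matrix.mulVec_smul, UWM_bF c i2 (by simp [i2]) (by simp [i2]),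
        UWM_bE c i2 (by simp [i2]), pE_i2]
      have : (⟨(i2 : Fin (j + 3)).val + 1, by simp [i2]⟩ : Fin (j + 3)) = i3 := by
        apply Fin.ext
        simp [i2, i3]
      rw [this]
      abel
    rw [e1]
    congr 1
    · abel
    · rw [sympForm_add_right, sympForm_self, zero_add, form_bF_right, Pi.sub_apply, Pi.neg_apply, Pi.smul_apply,
        bF_apply_inl, bE_apply_inl, if_neg]
      · simp
      · intro h
        have := congrArg Fin.val h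
        simp [i2, i3] at this
  have hk2 : HasM H k2M := by
    have h1 := hasM_comm_pure (H := H) (y := -bF i2) (y' := bF i3) (inV'_neg (inV'_bF i2_ne_i1))
      (inV'_bF i3_ne_i1) (by rw [sympForm_neg_left, form_bF_right, bF_apply_inl, neg_zero, neg_zero]) hA hf3
    exact h1
  -- the pure elements over `e_2`
  have hfe2 : ∀ t : K, HasM H (eichS (bF i1) (t • bE i2) 0) := by
    have h1 := hasM_pure_of_iter c hUW hwf (2 * j + 1) hYV hY (NU_iter_Y c 1)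
    have hne : (-1 : K) ^ j * c ≠ 0 := mul_ne_zero (pow_ne_zero _ (neg_ne_zero.mpr one_ne_zero)) hc
    exact pure_e2_all c hc hgen hUW hk2 hwf hne h1
  have hee2 : ∀ t : K, HasM H (eichS (bE i1) (t • bE i2) 0) := by
    have h1 : HasM H (eichS (bE i1) ((1 : K) • bE i2) 0) := by
      rw [one_smul]
      exact hX
    exact pure_e2_all c hc hgen hUW hk2 hwe one_ne_zero h1
  -- the pure elements over `f_l`, `l ≥ 3`
  have hff : ∀ l : Fin (j + 3), 2 ≤ l.val → ∀ t : K, HasM H (eichS (bF i1) (t • bF l) 0) :=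
    pure_f_all c hUW hwf (pure_f3_all hk2 hwf hfe2)
  have hef : ∀ l : Fin (j + 3), 2 ≤ l.val → ∀ t : K, HasM H (eichS (bE i1) (t • bF l) 0) :=
    pure_f_all c hUW hwe (pure_f3_all hk2 hwe hee2)
  have hk4 : ∀ τ : K, HasM H (k4M τ) := by
    intro τ
    exact hasM_comm_pure (H := H) (y := -bF i2) (y' := τ • bF iN) (inV'_neg (inV'_bF i2_ne_i1))
      (inV'_smul _ (inV'_bF iN_ne_i1))
      (by
        rw [sympForm_neg_left, sympForm_smul_right, form_bF_right, bF_apply_inl, neg_zero, mul_zero, neg_zero])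
      hA (hff iN (by simp [iN]) τ)
  -- the pure elements over `f_2`
  have hfEN : HasM H (eichS (bF i1) (c • bE iN) (-c)) := by
    have h1 := hasM_eN c hUW hwf (hff iN (by simp [iN])) 1
    rwa [one_mul, one_pow, one_mul] at h1
  have heEN : HasM H (eichS (bE i1) (c • bE iN) (-c)) := by
    have h1 := hasM_eN c hUW hwe (hef iN (by simp [iN])) 1
    rwa [one_mul, one_pow, one_mul] at h1
  have hff2 : ∀ t : K, HasM H (eichS (bF i1) (t • bF i2) 0) := pure_f2_all c hc hk4 hwf hfEN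
  have hef2 : ∀ t : K, HasM H (eichS (bE i1) (t • bF i2) 0) := pure_f2_all c hc hk4 hwe heEN
  -- the long root elements
  have hz1 : HasM H (eichS (bF i1) 0 1) := hasM_centre_f 1 hY hfe2 hff2
  have hZf2 : ∀ ξ : K, HasM H (eichS (bF i2) 0 ξ) := by
    let A : AddSubgroup K :=
      { carrier := {x | HasM H (eichS (bF i2) 0 x)}
        zero_mem' := by
          show HasM H (eichS (bF i2) 0 0)
          rw [eichS_zero_zero]
          exact HasM.one H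
        add_mem' := by
          intro a b ha hb
          have h1 := HasM.mul ha hb
          rw [eichS_mul _ _ (sympForm_zero_left _) (sympForm_zero_left _), add_zero, sympForm_zero_left,
            add_zero] at h1
          exact h1
        neg_mem' := by
          intro a ha
          have h1 := HasM.eichS_inv (sympForm_zero_left _) ha
          rwa [neg_zero] at h1 }
    have hA' : A = ⊤ := by
      apply squares_span
      intro t
      have h1 := hasM_tv_f2_of_f1 (ζ := 1) (t := t) hz1 (hef2 t) (by rw [one_mul]; exact hff2 t)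
      rwa [mul_one] at h1
    intro ξ
    have : ξ ∈ A := by rw [hA']; trivial
    exact this
  have hZf : ∀ z : K, HasM H (eichS (bF i1) 0 z) := by
    intro z
    have h1 := hasM_tv_f1_of_f2 (ξ := z) (t := 1) (hZf2 z) (hfe2 1) (by rw [mul_one]; exact hff2 z)
    rwa [one_pow, one_mul] at h1
  have hZe : ∀ z : K, HasM H (eichS (bE i1) 0 z) := by
    intro z
    have h1 := hasM_tv_e1_of_f2 (ξ := z) (t := 1) (hZf2 z) (hee2 1) (by rw [mul_one]; exact hef2 z)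
    rwa [one_pow, one_mul] at h1
  -- the two radicals
  have hQ : ∀ w : Vec, (w = bE i1 ∨ w = bF i1) → (∀ t : K, HasM H (eichS w (t • bF i2) 0)) →
      (∀ z : K, HasM H (eichS w 0 z)) → ∀ (y : Vec) (z : K), InV' y → HasM H (eichS w y z) := by
    intro w hw h2 hZ y z hy
    obtain ⟨z₀, hz₀⟩ := exists_hasM_all c hc hUW hw h2 y hy
    have h1 := HasM.mul hz₀ (hZ (z - z₀))
    rw [eichS_mul _ _ (form_side_of_inV' hy hw) (sympForm_zero_left _), add_zero, sympForm_zero_left, add_zero,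
      add_sub_cancel] at h1
    exact h1
  exact eq_top_of_Q H (hQ _ hwe hef2 hZe) (hQ _ hwf hff2 hZf)

/-- S2281 for `n ≥ 3` -/
theorem exists_triple_of_three_le {F : Type*} [Field F] [Fintype F] (n : ℕ) (hn : 3 ≤ n) :
    ∃ u g h : Matrix.symplecticGroup (Fin n) F,
      IsNilpotent ((u : Matrix (Fin n ⊕ Fin n) (Fin n ⊕ Fin n) F) - 1) ∧
      ((u : Matrix (Fin n ⊕ Fin n) (Fin n ⊕ Fin n) F) - 1) ^ (2 * n - 1) ≠ 0 ∧
      Subgroup.closure ({u, g * u * g⁻¹, h * u * h⁻¹} : Set (Matrix.symplecticGroup (Fin n) F)) = ⊤ := by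
  obtain ⟨j, rfl⟩ : ∃ j, n = j + 3 := ⟨n - 3, by omega⟩
  obtain ⟨c, hc, hgen⟩ := exists_param (K := F)
  refine ⟨⟨uM c, uM_mem c⟩, ⟨gM, gM_mem⟩, ⟨hM 1, hM_mem 1⟩, ?_, ?_, ?_⟩
  · exact ⟨2 * j + 6, uM_sub_one_pow_eq c⟩
  · have : 2 * (j + 3) - 1 = 2 * j + 5 := by omega
    rw [this]
    exact uM_sub_one_pow_ne c hc
  · exact model_main hc hgen _ _ _ rfl rfl rfl

end Cfsg.Agent.Helper46.RSp
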